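import Cfsg.Agent.Lib.Grp.M11.D0

set_option autoImplicit false
set_option maxRecDepth 100000

namespace Cfsg.Agent.CG.M11

noncomputable def tabs : List ℕ := [t0,t1,t2,t3,t4,t5,t6,t7,t8,t9,t10,t11,t12,t13,t14,t15,t16,t17,t18,t19,t20,t21,t22,t23,t24,t25,t26,t27,t28,t29,t30,t31,t32,t33,t34,t35,t36,t37,t38,t39,t40,t41,t42,t43,t44,t45,t46]
noncomputable abbrev app : ℕ → ℕ → ℕ := appT tabs t47 0xff
noncomputable def slpL : List (Bool × List ℕ) := [(false,[]),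
  (false,[]),
  (false,[]),
  (false,[0,1]),
  (true,[3]),
  (false,[2]),
  (true,[5]),
  (false,[5,5]),
  (false,[3]),
  (true,[8]),
  (false,[1,3,6,6,3,0,7,0,4,5,5,4,2]),
  (false,[10,9,9,9,10,8,10]),
  (true,[11]),
  (false,[11,8,11,8,10,12,10]),
  (true,[13]),
  (false,[8,14,11,14,14,14,9]),
  (true,[15]),
  (false,[8,13,9,11,8,12,13,15,15,15]),
  (true,[17]),
  (false,[9,12,15,10,14,11,9,16,9,14]),
  (true,[19]),
  (false,[18,20,20,8,12,10,8,10,9,12,10,9,16]),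
  (true,[21]),
  (false,[18,19,11,13,10,15,10,16,16,9,10]),
  (true,[23]),
  (false,[23,18,20,14,12,8,10,11,11,11,13,12]),
  (true,[25]),
  (false,[22,22,18,19,11,16,9,16,9,11,11]),
  (true,[27]),
  (false,[26]),
  (true,[29]),
  (false,[27]),
  (true,[31]),
  (false,[23,23]),
  (false,[17,23,23,25]),
  (false,[12,20,17,23,22,26]),
  (false,[21,27,25]),
  (false,[12,17,17,21,27,25]),
  (true,[37]),
  (false,[11,8,22]),
  (false,[11,19,19,17,23,23,27,25]),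
  (true,[40]),
  (false,[17,21]),
  (true,[42]),
  (false,[19,24,27]),
  (false,[8,8]),
  (true,[45])]
noncomputable def slp (a : ℕ) : Bool × List ℕ := nth slpL (false, []) a
noncomputable def invL : List ℕ := [0,2,1,4,3,6,5,7,9,8,10,12,11,14,13,16,15,18,17,20,19,22,21,24,23,26,25,28,27,30,29,32,31,33,34,35,36,38,37,39,41,40,43,42,44,46,45]
noncomputable def inv (a : ℕ) : ℕ := nth invL 47 a
noncomputable def bs : List ℕ := [8,64,40,16]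
noncomputable def mc0 : Lvl := ⟨8, [8,9,11,12,13,14,15,16], 11,
  fun i => look 0xff mc0c (Nat.mul 8 i), fun i => look 0xf mc0p (Nat.mul 4 i),
  fun i => look 255 mc0l (Nat.mul 8 i), fun i => look 255 mc0i (Nat.mul 8 i), fun x => look 0xff mc0q x, 2⟩
noncomputable def mc1 : Lvl := ⟨64, [17,18,19,20], 10,
  fun i => look 0xff mc1c (Nat.mul 8 i), fun i => look 0xf mc1p (Nat.mul 4 i),
  fun i => look 255 mc1l (Nat.mul 8 i), fun i => look 255 mc1i (Nat.mul 8 i), fun x => look 0xff mc1q x, 3⟩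
noncomputable def mc2 : Lvl := ⟨40, [21,22,23,24], 9,
  fun i => look 0xff mc2c (Nat.mul 8 i), fun i => look 0xf mc2p (Nat.mul 4 i),
  fun i => look 255 mc2l (Nat.mul 8 i), fun i => look 255 mc2i (Nat.mul 8 i), fun x => look 0xff mc2q x, 2⟩
noncomputable def mc3 : Lvl := ⟨16, [25,26,27,28], 8,
  fun i => look 0xff mc3c (Nat.mul 8 i), fun i => look 0xf mc3p (Nat.mul 4 i),
  fun i => look 255 mc3l (Nat.mul 8 i), fun i => look 255 mc3i (Nat.mul 8 i), fun x => look 0xff mc3q x, 2⟩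
noncomputable def mc : List Lvl := [mc0, mc1, mc2, mc3]
noncomputable def tcR : List (List ℕ) := [[29,30],
  [30,29],
  [31,32],
  [32,31],
  [30,31,29,31],
  [29,29,29,29],
  [32,29,31,29],
  [33,33],
  [33,31,33,30,33,30,32],
  [34,34],
  [34,33,34,33],
  [34,31,34,29,34,30,31],
  [34,32,33,29,34,31,33,30,32],
  [35,35],
  [35,34,35,34],
  [35,33,35,33,35,33],
  [35,32,35,29,35,30,32],
  [35,31,33,30,35,31,33,30],
  [35,33,29,33,35,30,31,33,29]]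
noncomputable def tc0T : List ℕ := [0,0,0,0,0,0,0,0,0,0,0,0,0,0,0,0,0,0,0,0,0,0,0,0,0,0,0,0,0,tc0t29,tc0t30,tc0t31,tc0t32,tc0t33,tc0t34,tc0t35]
noncomputable def tc0r : Tr Rule := (.node (.node (.node (.node (.node (.node (.leaf ⟨35,[35],13,1⟩) (.leaf ⟨31,[34,29,34,30,31,34],11,1⟩)) (.leaf ⟨34,[33,34,33],10,2⟩)) (.node (.leaf ⟨29,[29,29,29],5,2⟩) (.leaf ⟨33,[34,33,34],10,3⟩))) (.node (.node (.leaf ⟨31,[32],2,0⟩) (.leaf ⟨35,[32,35,29,35,30,32],16,0⟩)) (.node (.leaf ⟨29,[31,30,31],4,2⟩) (.leaf ⟨33,[35,30,31,33,29,35,33,29],18,3⟩)))) (.node (.node (.node (.leaf ⟨29,[30],0,0⟩) (.leaf ⟨35,[30,32,35,32,35,29],16,4⟩)) (.node (.leaf ⟨29,[31,29,32],6,1⟩) (.leaf ⟨29,[33,35,30,31,33,29,35,33],18,2⟩))) (.node (.node (.leaf ⟨34,[34],9,1⟩) (.leaf ⟨33,[30,35,31,33,30,35,31],17,6⟩)) (.node (.leaf ⟨32,[29,31,29],6,0⟩) (.leaf ⟨34,[32,33,29,34,31,33,30,32],12,0⟩)))))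 (.node (.node (.node (.node (.leaf ⟨30,[29],0,1⟩) (.leaf ⟨35,[33,35,33,35,33],15,4⟩)) (.node (.leaf ⟨29,[32,29,31],6,3⟩) (.leaf ⟨33,[29,35,33,29,33,35,30,31],18,7⟩))) (.node (.node (.leaf ⟨33,[33],7,1⟩) (.leaf ⟨35,[34,35,34],14,2⟩)) (.node (.leaf ⟨31,[29,31,30],4,1⟩) (.leaf ⟨31,[33,30,33,30,32,33],8,1⟩)))) (.node (.node (.node (.leaf ⟨32,[31],2,1⟩) (.leaf ⟨35,[29,35,30,32,35,32],16,2⟩)) (.node (.leaf ⟨31,[30,31,29],4,3⟩) (.leaf ⟨33,[29,33,35,30,31,33,29,35],18,1⟩))) (.node (.node (.leaf ⟨30,[31,29,31],4,0⟩) (.leaf ⟨33,[30,33,30,32,33,31],8,2⟩)) (.node (.leaf ⟨34,[35,34,35],14,3⟩) (.leaf ⟨29,[34,30,31,34,31,34],11,3⟩))))))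
noncomputable def tc0 : TCL := ⟨[29,30,31,32,33,34,35], [29,30,31,32,33,34], 11, 20, 0xff, 8, 0x3f,
  fun a x => look 0xfffff (nth tc0T 0 a) x, fun x => look 0xfffff tc0d x, tc0r⟩
noncomputable def tc1T : List ℕ := [0,0,0,0,0,0,0,0,0,0,0,0,0,0,0,0,0,0,0,0,0,0,0,0,0,0,0,0,0,tc1t29,tc1t30,tc1t31,tc1t32,tc1t33,tc1t34]
noncomputable def tc1r : Tr Rule := (.node (.node (.node (.node (.node (.leaf ⟨34,[34],9,1⟩) (.leaf ⟨34,[29,34,30,31,34,31],11,2⟩)) (.leaf ⟨29,[32,29,31],6,3⟩)) (.node (.node (.leaf ⟨31,[32],2,0⟩) (.leaf ⟨33,[29,34,31,33,30,32,34,32],12,2⟩)) (.leaf ⟨31,[29,31,30],4,1⟩))) (.node (.node (.node (.leaf ⟨29,[30],0,0⟩) (.leaf ⟨34,[33,34,33],10,2⟩)) (.leaf ⟨31,[30,31,29],4,3⟩)) (.node (.node (.leaf ⟨30,[31,29,31],4,0⟩) (.leaf ⟨31,[33,30,33,30,32,33],8,1⟩)) (.leaf ⟨33,[34,33,34],10,3⟩)))) (.node (.node (.node (.node (.leaf ⟨30,[29],0,1⟩)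 (.leaf ⟨34,[31,34,29,34,30,31],11,0⟩)) (.leaf ⟨29,[31,29,32],6,1⟩)) (.node (.node (.leaf ⟨33,[33],7,1⟩) (.leaf ⟨30,[33,30,32,33,31,33],8,3⟩)) (.leaf ⟨32,[29,31,29],6,0⟩))) (.node (.node (.node (.leaf ⟨32,[31],2,1⟩) (.leaf ⟨33,[30,32,34,32,33,29,34,31],12,6⟩)) (.leaf ⟨29,[31,30,31],4,2⟩)) (.node (.leaf ⟨29,[29,29,29],5,2⟩) (.leaf ⟨34,[30,31,34,31,34,29],11,4⟩)))))
noncomputable def tc1 : TCL := ⟨[29,30,31,32,33,34], [29,30,31,32,33], 10, 20, 0xff, 8, 0x1f,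
  fun a x => look 0xfffff (nth tc1T 0 a) x, fun x => look 0xfffff tc1d x, tc1r⟩
noncomputable def tc2T : List ℕ := [0,0,0,0,0,0,0,0,0,0,0,0,0,0,0,0,0,0,0,0,0,0,0,0,0,0,0,0,0,tc2t29,tc2t30,tc2t31,tc2t32,tc2t33]
noncomputable def tc2r : Tr Rule := (.node (.node (.node (.node (.leaf ⟨33,[33],7,1⟩) (.leaf ⟨29,[31,29,32],6,1⟩)) (.node (.leaf ⟨31,[32],2,0⟩) (.leaf ⟨32,[29,31,29],6,0⟩))) (.node (.node (.leaf ⟨29,[30],0,0⟩) (.leaf ⟨29,[31,30,31],4,2⟩)) (.node (.leaf ⟨29,[29,29,29],5,2⟩) (.leaf ⟨33,[30,33,30,32,33,31],8,2⟩)))) (.node (.node (.node (.leaf ⟨30,[29],0,1⟩) (.leaf ⟨31,[30,31,29],4,3⟩)) (.node (.leaf ⟨30,[31,29,31],4,0⟩) (.leaf ⟨33,[30,32,33,31,33,30],8,4⟩))) (.node (.node (.leaf ⟨32,[31],2,1⟩) (.leaf ⟨31,[29,31,30],4,1⟩)) (.node (.leaf ⟨29,[32,29,31],6,3⟩) (.leaf ⟨33,[31,33,30,33,30,32],8,0⟩)))))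
noncomputable def tc2 : TCL := ⟨[29,30,31,32,33], [29,30,31,32], 9, 16, 0xff, 8, 0x1f,
  fun a x => look 0xffff (nth tc2T 0 a) x, fun x => look 0xffff tc2d x, tc2r⟩
noncomputable def tc3T : List ℕ := [0,0,0,0,0,0,0,0,0,0,0,0,0,0,0,0,0,0,0,0,0,0,0,0,0,0,0,0,0,tc3t29,tc3t30,tc3t31,tc3t32]
noncomputable def tc3r : Tr Rule := (.node (.node (.node (.node (.leaf ⟨30,[29],0,1⟩) (.leaf ⟨29,[32,29,31],6,3⟩)) (.leaf ⟨29,[31,30,31],4,2⟩)) (.node (.node (.leaf ⟨32,[31],2,1⟩) (.leaf ⟨32,[29,31,29],6,0⟩)) (.leaf ⟨29,[29,29,29],5,2⟩))) (.node (.node (.node (.leaf ⟨29,[30],0,0⟩) (.leaf ⟨29,[31,29,32],6,1⟩)) (.leaf ⟨30,[31,29,31],4,0⟩)) (.node (.leaf ⟨31,[32],2,0⟩) (.leaf ⟨31,[29,32,29],6,2⟩))))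
noncomputable def tc3 : TCL := ⟨[29,30,31,32], [], 8, 16, 0xff, 8, 0xf,
  fun a x => look 0xffff (nth tc3T 0 a) x, fun x => look 0xffff tc3d x, tc3r⟩
noncomputable def tc : List TCL := [tc0, tc1, tc2, tc3]
noncomputable def inW : List (List ℕ) := [[32,35,31],
  [30,35,32,29,34,33,29],
  [29,29,35,31,29,34,31,33,29,29]]
noncomputable def tcS : List ℕ := [29,30,31,32,33,34,35]

end Cfsg.Agent.CG.M11
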