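import Cfsg.Agent.Lib.Grp.M11.ODefs

set_option autoImplicit false
set_option maxRecDepth 100000

namespace Cfsg.Agent.CG.M11

theorem Oc85 : cc0.chk (appT tabs t47 0xff) 1 7 = true := by decide +kernel
theorem Oc86 : cc1.chk (appT tabs t47 0xff) 1 5 = true := by decide +kernel
theorem Oc87 : okcb 11 8 (bases cc) = true := by decide +kernel
theorem Oc88 : headAll (appT tabs t47 0xff) cc [] = true := by decide +kernel
theorem Oc89 : tp0.head tpR = true := by decide +kernel
theorem Oc90 : allL (fun a => tp0.chk a 0 tp0.N) tp0.S = true := by decide +kernel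
theorem Oc91 : tp1.head tpR = true := by decide +kernel
theorem Oc92 : allL (fun a => tp1.chk a 0 tp1.N) tp1.S = true := by decide +kernel
theorem Oc93 : tcLink tp [] [36,37,38] = true := by decide +kernel
theorem Oc94 : pc0.chk (appT tabs t47 0xff) 1 7 = true := by decide +kernel
theorem Oc95 : pc1.chk (appT tabs t47 0xff) 1 1 = true := by decide +kernel
theorem Oc96 : okcb 11 8 (bases pc) = true := by decide +kernel
theorem Oc97 : headAll (appT tabs t47 0xff) pc [] = true := by decide +kernel
theorem Oc98 : allL (fun v => eqW (appT tabs t47 0xff) bs v []) tpR = true := by decide +kernel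
theorem Oc99 : trChk (appT tabs t47 0xff) mc0 [mc1, mc2, mc3] bs (diagQ pQ) (diagQ pR) pF 0 11 = true := by decide +kernel
theorem Oc100 : classChk (appT tabs t47 0xff) bs 10 2 39 [12,9,18,24,21,25] pS pF pU = true := by decide +kernel
theorem Oc101 : powChk (appT tabs t47 0xff) bs 8 11 aK nK = true := by decide +kernel
theorem Oc102 : en.chk (appT tabs t47 0xff) tst 0 165 0 1346897985 = true := by decide +kernel
theorem Oc103 : commAll (appT tabs t47 0xff) bs 10 cc = true := by decide +kernel
theorem Oc104 : relChk (appT tabs t47 0xff) bs 8 10 rT = true := by decide +kernel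

end Cfsg.Agent.CG.M11
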