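import Cfsg.Agent.Lib.CG.Glue2

set_option autoImplicit false
set_option maxRecDepth 100000

namespace Cfsg.Agent.CG.M11

noncomputable def cc0c : ℕ := 0x2018303848400008
noncomputable def cc0p : ℕ := 0x54321000
noncomputable def cc0l : ℕ := 0x2829282928292800
noncomputable def cc0i : ℕ := 0x2928292829282900
noncomputable def cc0q : ℕ := 0x3020405000706000001
noncomputable def cc1c : ℕ := 0x481830003840
noncomputable def cc1p : ℕ := 0x210000
noncomputable def cc1l : ℕ := 0x2c2c2c2b2a00
noncomputable def cc1i : ℕ := 0x2c2c2c2a2b00
noncomputable def cc1q : ℕ := 0x5000103000004000002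
noncomputable def tp0t36 : ℕ := 0x6b603c70242037402410105010301100
noncomputable def tp0t37 : ℕ := 0x23305850367035201060230010401010
noncomputable def tp0t38 : ℕ := 0x3a502230496022101070424022001020
noncomputable def tp0d : ℕ := 0x26302530242025102410260025000000
noncomputable def tp1t36 : ℕ := 0x2800110
noncomputable def tp1d : ℕ := 0x9000000
noncomputable def pc0c : ℕ := 0x3028384050201008
noncomputable def pc0p : ℕ := 0x33211000
noncomputable def pc0l : ℕ := 0x2625242524262500
noncomputable def pc0i : ℕ := 0x2526242624252600
noncomputable def pc0q : ℕ := 0x300040507060200010000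
noncomputable def pc1c : ℕ := 0x3028
noncomputable def pc1p : ℕ := 0x0
noncomputable def pc1l : ℕ := 0x2400
noncomputable def pc1i : ℕ := 0x2400
noncomputable def pc1q : ℕ := 0x1000000000000
noncomputable def w0 : ℕ := 0x19022e0112042f042f2325012f00010007002400250d140c07030f220e0223010d00270c10012f1c2b0d130f2f180b012c042f0325172f0f040c1c102f190c032418150f2f2723020c012f2629030b0b17040d0317022c02071012011b0c220327072b120f000a03120b2b0110022102040119072b0313071701180114122a001904230c071129002600280428001c012f0b2d00260215001b0225022f1a2b070e0b2204130113162b041604210f1600010f0e041c002f2d0c000e072f0c2f2e1011191215072b00140713002f122f012f162f24250425230b020a012f140b0015011402180c1607130c2901280129022f2f2a012f2100112f220f0110031a022f0713042f0d1a032f022401190c1800160122010a020d012d032f172f0e25002a0311002f1b2f2517002f11120c170f28030e03140427012e022c032f10160c2d012c010a0c2e000d0d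

end Cfsg.Agent.CG.M11
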