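import Cfsg.Agent.Lib.Grp.M11.OD1
import Cfsg.Agent.Lib.Grp.M11.Defs

set_option autoImplicit false
set_option maxRecDepth 100000

namespace Cfsg.Agent.CG.M11

noncomputable def cc0 : Lvl := ⟨8, [40,41], 8,
  fun i => look 0xff cc0c (Nat.mul 8 i), fun i => look 0xf cc0p (Nat.mul 4 i),
  fun i => look 255 cc0l (Nat.mul 8 i), fun i => look 255 cc0i (Nat.mul 8 i), fun x => look 0xff cc0q x, 4⟩
noncomputable def cc1 : Lvl := ⟨64, [42,43,44], 6,
  fun i => look 0xff cc1c (Nat.mul 8 i), fun i => look 0xf cc1p (Nat.mul 4 i),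
  fun i => look 255 cc1l (Nat.mul 8 i), fun i => look 255 cc1i (Nat.mul 8 i), fun x => look 0xff cc1q x, 2⟩
noncomputable def cc : List Lvl := [cc0, cc1]
noncomputable def pc0 : Lvl := ⟨8, [36,37,38], 8,
  fun i => look 0xff pc0c (Nat.mul 8 i), fun i => look 0xf pc0p (Nat.mul 4 i),
  fun i => look 255 pc0l (Nat.mul 8 i), fun i => look 255 pc0i (Nat.mul 8 i), fun x => look 0xff pc0q x, 3⟩
noncomputable def pc1 : Lvl := ⟨40, [36], 2,
  fun i => look 0xff pc1c (Nat.mul 8 i), fun i => look 0xf pc1p (Nat.mul 4 i),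
  fun i => look 255 pc1l (Nat.mul 8 i), fun i => look 255 pc1i (Nat.mul 8 i), fun x => look 0xff pc1q x, 1⟩
noncomputable def pc : List Lvl := [pc0, pc1]
noncomputable def tpR : List (List ℕ) := [[36,36],
  [37,38],
  [38,37],
  [37,37,37,37],
  [38,38,36,37,37,36],
  [38,36,37,36,37,36,37,36]]
noncomputable def tp0T : List ℕ := [0,0,0,0,0,0,0,0,0,0,0,0,0,0,0,0,0,0,0,0,0,0,0,0,0,0,0,0,0,0,0,0,0,0,0,0,tp0t36,tp0t37,tp0t38]
noncomputable def tp0r : Tr Rule := (.node (.node (.node (.node (.leaf ⟨38,[37],1,1⟩) (.leaf ⟨38,[38,36,37,37,36],4,0⟩)) (.leaf ⟨37,[36,38,38,36,37],4,4⟩)) (.node (.node (.leaf ⟨36,[36],0,1⟩) (.leaf ⟨36,[37,36,37,36,38,36,37],5,3⟩)) (.leaf ⟨37,[37,36,38,38,36],4,3⟩))) (.node (.node (.node (.leaf ⟨37,[38],1,0⟩) (.leaf ⟨36,[37,36,38,36,37,36,37],5,5⟩)) (.leaf ⟨36,[37,37,36,38,38],4,2⟩)) (.node (.leaf ⟨37,[37,37,37],3,2⟩) (.leaf ⟨38,[36,37,37,36,38],4,1⟩))))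
noncomputable def tp0 : TCL := ⟨[36,37,38], [36], 8, 16, 0xff, 8, 0xf,
  fun a x => look 0xffff (nth tp0T 0 a) x, fun x => look 0xffff tp0d x, tp0r⟩
noncomputable def tp1T : List ℕ := [0,0,0,0,0,0,0,0,0,0,0,0,0,0,0,0,0,0,0,0,0,0,0,0,0,0,0,0,0,0,0,0,0,0,0,0,tp1t36]
noncomputable def tp1r : Tr Rule := (.leaf ⟨36,[36],0,1⟩)
noncomputable def tp1 : TCL := ⟨[36], [], 2, 16, 0x3f, 6, 0x3,
  fun a x => look 0xffff (nth tp1T 0 a) x, fun x => look 0xffff tp1d x, tp1r⟩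
noncomputable def tp : List TCL := [tp0, tp1]
noncomputable def pS : List ℕ := [36,37,38]
noncomputable def pQ : List (List ℕ) := [[],
  [37,37],
  [37,36,37],
  [37]]
noncomputable def pR : List (List ℕ) := [[36],
  [37],
  [38]]
noncomputable def pF : List (List ℕ) := [[],
  [11,8,22]]
noncomputable def pU : List (List ℕ) := [[12,9,18,22,27]]
noncomputable def aK : List ℕ := [8,45]
noncomputable def nK : List (List ℕ × ℕ) := [([],0),
  ([],8),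
  ([],45),
  ([11,8,18,18,24,21,28],8),
  ([12,9,18,18,23,23,25],8),
  ([12,17,19,17,21,21,28],8),
  ([11,8,18,18,24,21,28],45),
  ([16,8,19,19,17,24,21],45),
  ([12,9,18,18,23,23,25],45),
  ([16,8,19,19,17,24,21],8),
  ([12,17,19,17,21,21,28],45)]
noncomputable def rT : List (List ℕ × ℕ) := [([0,1,0,1,0,1,0,1],40),
  ([0,1,0,1,0,1,0,1],56),
  ([0,1,0,1,0,1,0,1],16),
  ([0,0,0,1,0,0,1,0,1,0,0,0,1,0,0,1,0,1,0,0,0,1,0,0,1,0,1],24),
  ([0,0,0,1,0,0,1,0,1,0,0,0,1,0,0,1,0,1,0,0,0,1,0,0,1,0,1],0)]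
noncomputable def uu : List (List ℕ) := [[],
  [8],
  [9],
  [11,8,19,19,17,23,28],
  [11,9,20,17,23,22,28,25],
  [11,18,18,24,21,28,25],
  [12,9,19,19,17,23,27,25],
  [12,19,17,23,22,27,25],
  [13,19,17,25,25],
  [14,9,20,17,21,21,25,25],
  [16,8,19,24,28,25]]
noncomputable def wT : Tr ℕ := (.leaf w0)
noncomputable def en : Enum := ⟨inv, 8, 255, 2, fun i => force (Nat.shiftRight i 10) fun c => look 0xffff (wT.get c) (Nat.mul 16 (Nat.land i 1023)), 10, [8,64,40,16], 256⟩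
noncomputable def tst : (ℕ → ℕ) → Bool := outTest (appT tabs t47 0xff) bs aK rT [(8, 10)] uu

end Cfsg.Agent.CG.M11
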