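import Cfsg.Agent.Lib.Grp.M11.OC0
import Cfsg.Agent.Lib.Grp.M11.Main

set_option autoImplicit false
set_option maxRecDepth 100000

namespace Cfsg.Agent.CG.M11

theorem chainC : ChainOK act cc [] :=
  chainOK_of_chk act cc [] (by simp) (okc_of_okcb Oc87) Oc88
  (allL_cons Oc85 (allL_cons Oc86 (allL_nil _)))

theorem chainP : ChainOK act pc [] :=
  chainOK_of_chk act pc [] (by simp) (okc_of_okcb Oc96) Oc97
  (allL_cons Oc94 (allL_cons Oc95 (allL_nil _)))

theorem boundsP : Bounds tpR pS (2 ^ 4) :=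
  (show prodTC tp = 2 ^ 4 by decide +kernel) ▸ bounds_of_chain Oc93
  (allL_cons Oc89 (allL_cons Oc91 (allL_nil _)))
  (allL_cons Oc90 (allL_cons Oc92 (allL_nil _)))

theorem cardP : Nat.card (cl act.gen pS) = 2 ^ 4 :=
  card_cl_eq chainP (by decide +kernel) boundsP (base.rels Oc98) (by decide +kernel)

theorem centP : ∀ g ∈ Subgroup.centralizer (cl act.gen pS : Set PG), ∃ φ ∈ pF, g = ev act.gen φ :=
  centralizer_subset (l := mc0) (L := [mc1, mc2, mc3]) chain card_le base (Q := pQ) (Rf := pR) (by decide +kernel) (by decide +kernel) (by decide +kernel)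
    Oc99

theorem autT (φ : MulAut PG) : ∃ g : PG, φ (act.gen 10) = g * act.gen 10 * g⁻¹ :=
  aut_class base (r := 2) (by norm_num) cardP (not_dvd_of_eq card (by decide +kernel)) centP
    Oc100 φ

theorem autA (φ : MulAut PG) : ∃ g : PG, ∃ a' ∈ aK, g * φ (act.gen 8) * g⁻¹ = act.gen a' :=
  aut_pow base (p := 11) (by norm_num) (not_dvd_of_eq card (by decide +kernel))
    Oc101 φ

theorem enumOK : en.OK app tst 0 165 0 1346897985 :=
  (Enum.ok_of_chk Oc102)

theorem cent_le : prodN cc ≤ Nat.card (Subgroup.centralizer {act.gen 10}) :=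
  le_card_centralizer base chainC Oc103

theorem classAll (g : PG) : ∃ f, act.Rep (g * act.gen 10 * g⁻¹) f ∧ tst f = true :=
  Enum.OK.all (A := act) (E := en) enumOK hinv (okc_of_okcb (n := 11) (w := 8) (by decide +kernel)) cent_le
    (card ▸ (ble_iff _ _).1 (by decide +kernel)) g

theorem autPair (φ : MulAut PG) : ∃ s ∈ [(8, 10)], ∃ g : PG, φ (act.gen 8) = g * act.gen s.1 * g⁻¹ ∧ φ (act.gen 10) = g * act.gen s.2 * g⁻¹ :=
  aut_pair base Oc104 (okc_of_okcb (n := 11) (w := 8) (by decide +kernel)) autA autT classAll φ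

theorem card_out : Nat.card (Out PG) = 1 := card_out_eq_one clAT autPair

end Cfsg.Agent.CG.M11
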